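import Cfsg.Agent.H0.Tr
import Cfsg.Agent.H0.TT
import Cfsg.Agent.H0.MJ2p.D
import Cfsg.Agent.H0.MU33.D
set_option maxRecDepth 100000
set_option Elab.async false
set_option linter.unusedSectionVars false
namespace H0.EJ2U
open H0 BN 
noncomputable def n13 : Net := (Net.cons (nat_lit 64) (nat_lit 0x737f600000000000) (Net.cons (nat_lit 32) (nat_lit 0x217d006000000000b00041b0) (Net.cons (nat_lit 16) (nat_lit 0x31320000fc0e0000be0000000900) (Net.cons (nat_lit 8) (nat_lit 0x64003900e000440000003c004c0048) (Net.cons (nat_lit 4) (nat_lit 0x80e05030f000d0a000e0e08000e0a) (Net.cons (nat_lit 2) (nat_lit 0x2002131001303020000000202012002) (Net.cons (nat_lit 1) (nat_lit 0x4401140154115441000451001000510) (Net.cons (nat_lit 2) (nat_lit 0x2002020000200020000000002000000) (Net.cons (nat_lit 4) (nat_lit 0x80e000000000c0200020a08000e0a) (Net.cons (nat_lit 8) (nat_lit 0x44005800e000440000003c00040048) (Net.cons (nat_lit 16) (nat_lit 0x31300000fc0e0000be0000000900) (Net.cons (nat_lit 32) (nat_lit 0x201d006000000000b00041b0)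 (Net.cons (nat_lit 64) (nat_lit 0x737f600000000000) Net.nil)))))))))))))
noncomputable def n14 : Net := (Net.cons (nat_lit 64) (nat_lit 0xfbdfffe000000000) (Net.cons (nat_lit 32) (nat_lit 0x2d100bc50000000053ac6750) (Net.cons (nat_lit 16) (nat_lit 0xb40a000072680000409c00003cac) (Net.cons (nat_lit 8) (nat_lit 0xbb004d008600ba002a006e00c800a8) (Net.cons (nat_lit 4) (nat_lit 0x608000c0b0b0b0e0206040e00030402) (Net.cons (nat_lit 2) (nat_lit 0x23213103010211021130002210232000) (Net.cons (nat_lit 1) (nat_lit 0x1550145404041140540044140044010) (Net.cons (nat_lit 2) (nat_lit 0x2000020200002220020022000022020) (Net.cons (nat_lit 4) (nat_lit 0x6040808040808080206000a00000408) (Net.cons (nat_lit 8) (nat_lit 0x340024008c0060003a002800c00088) (Net.cons (nat_lit 16) (nat_lit 0x804000006826000003980000b48c) (Net.cons (nat_lit 32) (nat_lit 0x46da878e00000000578c6758) (Net.cons (nat_lit 64) (nat_lit 0xfbdfffe000000000) Net.nil)))))))))))))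
noncomputable def n15 : Net := (Net.cons (nat_lit 64) (nat_lit 0xfbdfffe000000000) (Net.cons (nat_lit 32) (nat_lit 0xb925787100000000578c6758) (Net.cons (nat_lit 16) (nat_lit 0x686600000f43000055cc0000b48c) (Net.cons (nat_lit 8) (nat_lit 0x630092007e00d10068003600c80088) (Net.cons (nat_lit 4) (nat_lit 0x70b070e04050e0802040003000f0408) (Net.cons (nat_lit 2) (nat_lit 0x20123230021302332200120130122020) (Net.cons (nat_lit 1) (nat_lit 0x4044114055445044500041110104010) (Net.cons (nat_lit 2) (nat_lit 0x2000000020002000022220002000) (Net.cons (nat_lit 4) (nat_lit 0x40400000c02000002000000000c0402) (Net.cons (nat_lit 8) (nat_lit 0x780074003800900068002000c000a8) (Net.cons (nat_lit 16) (nat_lit 0x72600000d684000012c000003cac) (Net.cons (nat_lit 32) (nat_lit 0xd2eff43a0000000053ac6750) (Net.cons (nat_lit 64) (nat_lit 0xfbdfffe000000000) Net.nil)))))))))))))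
noncomputable def n16 : Net := (Net.cons (nat_lit 64) (nat_lit 0x3fe39fe000000000) (Net.cons (nat_lit 32) (nat_lit 0xae17bfe00000000000001c00) (Net.cons (nat_lit 16) (nat_lit 0x3bf80000467d0000c000000007c0) (Net.cons (nat_lit 8) (nat_lit 0x53003000e700f90000001c00780024) (Net.cons (nat_lit 4) (nat_lit 0xc0009000b00020100000e0c0808020c) (Net.cons (nat_lit 2) (nat_lit 0x20202030021200020000123000000112) (Net.cons (nat_lit 1) (nat_lit 0x45150450400044400000401050500004) (Net.cons (nat_lit 2) (nat_lit 0x200000200000000000002000000002) (Net.cons (nat_lit 4) (nat_lit 0x8000000000000000e0c08080004) (Net.cons (nat_lit 8) (nat_lit 0x70003000c200380000000000000024) (Net.cons (nat_lit 16) (nat_lit 0x3180000577c00008000000007c0) (Net.cons (nat_lit 32) (nat_lit 0x8617bf800000000000001c00) (Net.cons (nat_lit 64) (nat_lit 0x3fe39fe000000000) Net.nil)))))))))))))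
noncomputable def n17 : Net := (Net.cons (nat_lit 64) (nat_lit 0xffffffe000000000) (Net.cons (nat_lit 32) (nat_lit 0x1cd6f8720000000050808218) (Net.cons (nat_lit 16) (nat_lit 0x3ef300009eab0000508000007108) (Net.cons (nat_lit 8) (nat_lit 0x2700f5005c002a000000d2001e0020) (Net.cons (nat_lit 4) (nat_lit 0x70f0a0c0c060e000000020d06070202) (Net.cons (nat_lit 2) (nat_lit 0x20013012101331030000001230100002) (Net.cons (nat_lit 1) (nat_lit 0x14141551451001400000100104110150) (Net.cons (nat_lit 2) (nat_lit 0x222002000000200000000000000000) (Net.cons (nat_lit 4) (nat_lit 0x40804000a020a02000002080c040200) (Net.cons (nat_lit 8) (nat_lit 0x5a00d000ba00200000004000460000) (Net.cons (nat_lit 16) (nat_lit 0x9c4000084400000508000005c42) (Net.cons (nat_lit 32) (nat_lit 0x5724ec1c0000000050808216) (Net.cons (nat_lit 64) (nat_lit 0xffffffe000000000) Net.nil)))))))))))))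
noncomputable def n18 : Net := (Net.cons (nat_lit 64) (nat_lit 0xffffffe000000000) (Net.cons (nat_lit 32) (nat_lit 0x57e4ec9c00000000f0c0c2de) (Net.cons (nat_lit 16) (nat_lit 0xb61b00007b3d0000d25c00001c00) (Net.cons (nat_lit 8) (nat_lit 0x2f00e5002800ba00dc005000060000) (Net.cons (nat_lit 4) (nat_lit 0x404070b01020f090a00000e04030200) (Net.cons (nat_lit 2) (nat_lit 0x22101200330321331200000112030000) (Net.cons (nat_lit 1) (nat_lit 0x11451541404051041000401400140110) (Net.cons (nat_lit 2) (nat_lit 0x2002002200002022000000000020000) (Net.cons (nat_lit 4) (nat_lit 0x80a0008000002080c00000e04000202) (Net.cons (nat_lit 8) (nat_lit 0xa00d00028005c001c0090001e0020) (Net.cons (nat_lit 16) (nat_lit 0xc504000041140000121c00001100) (Net.cons (nat_lit 32) (nat_lit 0x1c16d87200000000f0c0c2d0) (Net.cons (nat_lit 64) (nat_lit 0xffffffe000000000) Net.nil)))))))))))))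
noncomputable def n19 : Net := (Net.cons (nat_lit 64) (nat_lit 0xffffffe000000000) (Net.cons (nat_lit 32) (nat_lit 0x1bbd812e0000000062d28d14) (Net.cons (nat_lit 16) (nat_lit 0x63bf0000b150000061d80000a4a6) (Net.cons (nat_lit 8) (nat_lit 0x72003d00e4001c001000aa00000068) (Net.cons (nat_lit 4) (nat_lit 0xc030c000b0108010300000501080604) (Net.cons (nat_lit 2) (nat_lit 0x1200303001230310002022300233010) (Net.cons (nat_lit 1) (nat_lit 0x1451511051544141000445100015400) (Net.cons (nat_lit 2) (nat_lit 0x200020002022220000020200020200) (Net.cons (nat_lit 4) (nat_lit 0x40e08040a060a060200040000020404) (Net.cons (nat_lit 8) (nat_lit 0x1000800018005e001200aa0028002c) (Net.cons (nat_lit 16) (nat_lit 0x3c140000c266000061c80000b4a6) (Net.cons (nat_lit 32) (nat_lit 0x85d3d4680000000062d28d14) (Net.cons (nat_lit 64) (nat_lit 0xffffffe000000000) Net.nil)))))))))))))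
noncomputable def n20 : Net := (Net.cons (nat_lit 64) (nat_lit 0xffffffe000000000) (Net.cons (nat_lit 32) (nat_lit 0xc5a3d5230000000066f08c1c) (Net.cons (nat_lit 16) (nat_lit 0x42830000219d000060c80000b0a6) (Net.cons (nat_lit 8) (nat_lit 0x790096003100d7003800aa002800d6) (Net.cons (nat_lit 4) (nat_lit 0x90c0005040204090400040e01020104) (Net.cons (nat_lit 2) (nat_lit 0x12020222110303013200021100210122) (Net.cons (nat_lit 1) (nat_lit 0x14114414145454144000444500040114) (Net.cons (nat_lit 2) (nat_lit 0x2000202200000002000020000000020) (Net.cons (nat_lit 4) (nat_lit 0x4080c04020800080600000200080004) (Net.cons (nat_lit 8) (nat_lit 0x80003400a0000a003800aa00000094) (Net.cons (nat_lit 16) (nat_lit 0x85c20000eb2c000060d80000a0a6) (Net.cons (nat_lit 32) (nat_lit 0x2abf0c260000000066f08c04) (Net.cons (nat_lit 64) (nat_lit 0xffffffe000000000) Net.nil)))))))))))))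
noncomputable def nl2 : List Net := [n13, n14, n15, n16, n17, n18, n19, n20]
theorem nl2_ok : allL (Net.ok (nat_lit 128)) nl2 = true := by decide +kernel
noncomputable def nl : List Net := [H0.MJ2p.n0, H0.MJ2p.n1, H0.MJ2p.n2, H0.MJ2p.n3, H0.MJ2p.n4, H0.MJ2p.n5, H0.MJ2p.n6, H0.MJ2p.n7, H0.MJ2p.n8, H0.MJ2p.n9, H0.MJ2p.n10, H0.MJ2p.n11, H0.MJ2p.n12, n13, n14, n15, n16, n17, n18, n19, n20]
theorem nl_ok : allL (Net.ok (nat_lit 128)) nl = true := allL_append H0.MJ2p.nl_ok nl2_ok
noncomputable def R : Rep := mkRep (nat_lit 7) (nat_lit 128) nl (by decide +kernel) nl_ok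
def defs : List (List ℕ) := [[3, 3, 3, 5, 3, 3, 6, 8, 6, 6, 10], [5, 3, 3, 5, 8, 6, 6, 8, 6, 10], [14, 14, 14, 14, 14], [15, 13, 14], [13, 14, 13, 15, 15, 13, 15, 13, 15], [17, 17, 17, 17, 17, 17, 17], [18, 18, 16, 18], [19, 19, 19, 19, 19, 19, 19]]
theorem c0 : pairsB R [1, 68, 37, 0] ((((H0.MU33.B.map (sh 13)).map fun r => (r, ([] : List ℕ))).drop 0).take 34) = true := by decide +kernel
theorem c1 : neB R [13] [] 1 36 1 = true := by decide +kernel
theorem c2 : Model.fixP R [0] ((lets 8).map (sh 13)) = true := by decide +kernel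
theorem c3 : Model.growW R [[13], [14], [15], [16], [17], [18], [19], [20]] [0, 3, 4, 6, 1, 4, 1] (Nat.pow 2 1) (ival 1 36) = true := by decide +kernel
theorem c4 : Model.invW R [[13], [14], [15], [16], [17], [18], [19], [20]] 1 36 = true := by decide +kernel
theorem c5 : Model.growW R [[13], [14], [15], [16], [17], [18], [19], [20]] [0, 1, 4, 6, 0, 1, 6, 0, 1] (Nat.pow 2 37) (ival 37 63) = true := by decide +kernel
theorem c6 : Model.invW R [[13], [14], [15], [16], [17], [18], [19], [20]] 37 63 = true := by decide +kernel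
theorem c7 : defsChk R defs 13 = true := by decide +kernel
end H0.EJ2U
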